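import Cfsg.Agent.H67.RankOneFix.SUThree
import Cfsg.Agent.Suzuki.Lie
import Cfsg.Agent.Suzuki.Borel
import Cfsg.Prelude.Def_Sz

/-!
In `SL₂`, `SU₃` (defining characteristic), `Sz` and their central quotients the normaliser of a Sylow subgroup
of the defining characteristic is a maximal subgroup.
-/

set_option autoImplicit false
set_option linter.unusedSectionVars false
set_option linter.style.haveILetI false

namespace Cfsg.Agent.H76.PostBender

open Subgroup

section Geom

open Cfsg.Agent.H67.RankOneFix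

variable {p : ℕ} [Fact p.Prime] {X : Type*} [Group X] [Finite X] {F : Type} [Field F] {M : Type}
  [AddCommGroup M] [Module F M]

theorem coatom_normalizer_of_geom (D : Geom p X F M) {u f : M} (hu : u ∈ D.pts) (hf : f ∈ D.pts)
    (hfu : ∀ c : F, f ≠ c • u)
    (htrans : ∀ v ∈ D.pts, (∀ c : F, v ≠ c • u) → ∃ x, D.op x u = u ∧ ∃ c : F, c ≠ 0 ∧ D.op x f = c • v)
    (T : Sylow p X) : IsCoatom (normalizer ((T : Subgroup X) : Set X)) := by
  classical
  obtain ⟨U, hU⟩ := D.stab u hu
  have hu0 := D.ne_zero u hu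
  have hinv : ∀ g v, D.op g⁻¹ (D.op g v) = v := fun g v => by
    rw [← D.op_mul, inv_mul_cancel, D.op_one]
  -- the normaliser of `U` is the stabiliser of the line of `u`
  have hN : ∀ g, g ∈ normalizer ((U : Subgroup X) : Set X) ↔ ∃ c : F, D.op g u = c • u := by
    intro g
    constructor
    · intro hg
      refine D.line u hu _ (D.invariant g u hu) fun x hx => ?_
      have h1 := (hU _).mp ((mem_normalizer_iff''.mp hg x).mp ((hU x).mpr hx))
      have h2 := congrArg (D.op g) h1
      rwa [← D.op_mul, show g * (g⁻¹ * x * g) = x * g by group, D.op_mul] at h2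
    · rintro ⟨c, hc⟩
      have hc0 : c ≠ 0 := fun h => D.ne_zero _ (D.invariant g u hu) (by rw [hc, h, zero_smul])
      rw [mem_normalizer_iff_map_conj_eq]
      refine eq_of_le_of_card_ge ?_ (card_map_of_injective (MulAut.conj g).injective).ge
      rintro _ ⟨x, hx, rfl⟩
      refine (hU _).mpr (smul_right_injective M hc0 ?_)
      show c • D.op (g * x * g⁻¹) u = c • u
      rw [← D.op_smul, ← hc, ← D.op_mul, inv_mul_cancel_right, D.op_mul, (hU x).mp hx]
  have key : IsCoatom (normalizer ((U : Subgroup X) : Set X)) := by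
    constructor
    · intro htop
      obtain ⟨V, hV⟩ := D.stab f hf
      obtain ⟨g, hg⟩ := MulAction.exists_smul_eq X U V
      rw [Sylow.smul_eq_iff_mem_normalizer.mpr (htop ▸ mem_top g)] at hg
      subst hg
      obtain ⟨c, hc⟩ := D.line u hu f hf fun x hx => (hV x).mp ((hU x).mpr hx)
      exact hfu c hc
    · intro K hK
      obtain ⟨hle, g, hgK, hgN⟩ := SetLike.lt_iff_le_and_exists.mp hK
      have hout : ∀ c : F, D.op g u ≠ c • u := fun c hc => hgN ((hN g).mpr ⟨c, hc⟩)
      obtain ⟨x₁, hx₁, c₁, hc₁, h1⟩ := htrans _ (D.invariant g u hu) hout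
      have hfix : ∀ x, D.op x u = u → x ∈ K := fun x hx => hle ((hN x).mpr ⟨1, by rw [hx, one_smul]⟩)
      refine eq_top_iff.mpr fun y _ => ?_
      by_cases hy : ∃ c : F, D.op y u = c • u
      · exact hle ((hN y).mpr hy)
      push Not at hy
      obtain ⟨x₂, hx₂, c₂, hc₂, h2⟩ := htrans _ (D.invariant y u hu) hy
      have h3 : D.op (y⁻¹ * (x₂ * x₁⁻¹ * g)) u = (c₁⁻¹ * c₂) • u := by
        have hgu : D.op g u = c₁⁻¹ • D.op x₁ f := by rw [h1, inv_smul_smul₀ hc₁]
        rw [D.op_mul, D.op_mul, D.op_mul, hgu, D.op_smul, hinv, D.op_smul, h2, D.op_smul, D.op_smul,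
          hinv, smul_smul]
      have hk : y⁻¹ * (x₂ * x₁⁻¹ * g) ∈ K := hle ((hN _).mpr ⟨_, h3⟩)
      have hm : x₂ * x₁⁻¹ * g ∈ K := mul_mem (mul_mem (hfix _ hx₂) (inv_mem (hfix _ hx₁))) hgK
      have := mul_mem hm (inv_mem hk)
      rwa [show x₂ * x₁⁻¹ * g * (y⁻¹ * (x₂ * x₁⁻¹ * g))⁻¹ = y by group] at this
  obtain ⟨g, rfl⟩ := MulAction.exists_smul_eq X U T
  rw [show ((g • U : Sylow p X) : Subgroup X) = (U : Subgroup X).map (MulAut.conj g).toMonoidHom from rfl,
    ← map_equiv_normalizer_eq]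
  exact (OrderIso.isCoatom_iff (MulAut.conj g).mapSubgroup _).mpr key

end Geom

section Quot

variable {p : ℕ} [Fact p.Prime]

/-- In a quotient, a proper subgroup containing the normaliser of a Sylow subgroup equals it, if the
normalisers of Sylow subgroups of the group are maximal. -/
theorem eq_normalizer_of_coatom {X N : Type*} [Group X] [Finite X] [Group N] {π : X →* N}
    (hπ : Function.Surjective π) (hco : ∀ T : Sylow p X, IsCoatom (normalizer ((T : Subgroup X) : Set X)))
    (S : Sylow p N) {Y : Subgroup N} (hY : normalizer ((S : Subgroup N) : Set N) ≤ Y) (hY1 : Y ≠ ⊤) :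
    Y = normalizer ((S : Subgroup N) : Set N) := by
  obtain ⟨T, rfl⟩ := Sylow.mapSurjective_surjective hπ p S
  rw [Sylow.coe_mapSurjective] at hY ⊢
  have h1 : normalizer ((T : Subgroup X) : Set X) ≤ Y.comap π :=
    map_le_iff_le_comap.mp ((le_normalizer_map π).trans hY)
  have h2 : Y.comap π ≠ ⊤ := fun h => hY1 (by
    rw [← map_comap_eq_self_of_surjective hπ Y, h, map_top_of_surjective π hπ])
  rcases h1.eq_or_lt with h | h
  · refine le_antisymm ?_ hY
    rw [← map_comap_eq_self_of_surjective hπ Y, ← h]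
    exact le_normalizer_map π
  · exact absurd ((hco T).2 _ h) h2

end Quot

section Families

open Cfsg.Agent.H67.RankOneFix

variable {p : ℕ} [Fact p.Prime] {F : Type} [Field F] [Fintype F] [CharP F p]

open Matrix in
theorem coatom_normalizer_slTwo (T : Sylow p (Matrix.SpecialLinearGroup (Fin 2) F)) :
    IsCoatom (normalizer ((T : Subgroup (Matrix.SpecialLinearGroup (Fin 2) F)) : Set (Matrix.SpecialLinearGroup (Fin 2) F))) := by
  refine coatom_normalizer_of_geom (slGeom (p := p) (F := F)) (u := ![1, 0]) (f := ![0, 1]) ?_ ?_ ?_ ?_ T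
  · intro h; have := congrFun h 0; simp at this
  · intro h; have := congrFun h 1; simp at this
  · intro c h; have := congrFun h 1; simp at this
  · intro v _ hvu
    have hv1 : v 1 ≠ 0 := fun h => hvu (v 0) (by ext i; fin_cases i <;> simp [h])
    refine ⟨upEl (v 0 / v 1), ?_, (v 1)⁻¹, inv_ne_zero hv1, ?_⟩
    · show ((upEl (v 0 / v 1) : Matrix.SpecialLinearGroup (Fin 2) F) : Matrix (Fin 2) (Fin 2) F) *ᵥ _ = _
      ext i; fin_cases i <;> simp [upEl, Matrix.mulVec, dotProduct, Fin.sum_univ_two]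
    · show ((upEl (v 0 / v 1) : Matrix.SpecialLinearGroup (Fin 2) F) : Matrix (Fin 2) (Fin 2) F) *ᵥ _ = _
      ext i; fin_cases i <;> simp [upEl, Matrix.mulVec, dotProduct, Fin.sum_univ_two, hv1]
      field_simp

open Cfsg.Agent.Unitary Cfsg.Agent.H52.SUThree in
theorem coatom_normalizer_suThree {q : ℕ} (hF : Fintype.card F = q ^ 2) (T : Sylow p (Cfsg.SU 3 F q)) :
    IsCoatom (normalizer ((T : Subgroup (Cfsg.SU 3 F q)) : Set (Cfsg.SU 3 F q))) := by
  obtain ⟨u, w, f, hfr⟩ := exists_frame (F := F) hF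
  have hu0 : u ≠ 0 := fun h => by
    have := hfr.uf; rw [h, herm_zero_left] at this; exact zero_ne_one this
  have hf0 : f ≠ 0 := fun h => by
    have := hfr.fu; rw [h, herm_zero_left] at this; exact zero_ne_one this
  refine coatom_normalizer_of_geom (suGeom p hF) (u := u) (f := f) ⟨hu0, hfr.uu⟩ ⟨hf0, hfr.ff⟩ ?_ ?_ T
  · intro c hc
    have := hfr.fu
    rw [hc, herm_smul_left, hfr.uu, mul_zero] at this
    exact zero_ne_one this
  · rintro v ⟨hv0, hvv⟩ hvu
    set a := hermForm 3 F q v f with hadef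
    set r := hermForm 3 F q v w with hrdef
    set s := hermForm 3 F q v u with hsdef
    have hv : v = vec u w f a r s := hfr.expand v
    have hnorm : a * s ^ q + r * r ^ q + s * a ^ q = 0 := by
      rw [← hfr.herm_vec hF, ← hv]; exact hvv
    have hq0 := q_ne_zero hF
    have hs : s ≠ 0 := fun hs => by
      rw [hs, zero_mul, zero_pow hq0, mul_zero, zero_add, add_zero, mul_eq_zero, pow_eq_zero_iff hq0,
        or_self] at hnorm
      exact hvu a (by rw [hv, hnorm, hs]; simp [vec])
    have hok : Ok q (r / s) (a / s) := by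
      have hsq : s ^ q ≠ 0 := pow_ne_zero _ hs
      rw [Ok, div_pow, div_pow]
      field_simp
      linear_combination hnorm
    refine ⟨eSU hF (hok.spec hfr), E_fixes hF hfr hok, s⁻¹, inv_ne_zero hs, ?_⟩
    show ap _ f = _
    have e := ap_E hF hfr hok 0 0 1
    rw [fr_f] at e
    rw [e, hv]
    simp only [vec]
    match_scalars <;> field_simp <;> ring

theorem psl_eq_normalizer {N : Type*} [Group N]
    (e : N ≃* Matrix.ProjectiveSpecialLinearGroup (Fin 2) F) (S : Sylow p N) {Y : Subgroup N}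
    (hY : normalizer ((S : Subgroup N) : Set N) ≤ Y) (hY1 : Y ≠ ⊤) :
    Y = normalizer ((S : Subgroup N) : Set N) :=
  eq_normalizer_of_coatom (π := e.symm.toMonoidHom.comp
    (QuotientGroup.mk' (center (Matrix.SpecialLinearGroup (Fin 2) F))))
    (e.symm.surjective.comp (QuotientGroup.mk'_surjective _)) coatom_normalizer_slTwo S hY hY1

theorem psu_eq_normalizer {N : Type*} [Group N] {q : ℕ} (hF : Fintype.card F = q ^ 2)
    (e : N ≃* Cfsg.PSU 3 F q) (S : Sylow p N) {Y : Subgroup N}
    (hY : normalizer ((S : Subgroup N) : Set N) ≤ Y) (hY1 : Y ≠ ⊤) :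
    Y = normalizer ((S : Subgroup N) : Set N) :=
  eq_normalizer_of_coatom (π := e.symm.toMonoidHom.comp
    (QuotientGroup.mk' (center (Cfsg.SU 3 F q))))
    (e.symm.surjective.comp (QuotientGroup.mk'_surjective _)) (coatom_normalizer_suThree hF) S hY hY1

end Families

theorem sz_eq_normalizer {N : Type*} [Group N] (h : Cfsg.Lie.IsoSuzuki N) (S : Sylow 2 N) {Y : Subgroup N}
    (hY : normalizer ((S : Subgroup N) : Set N) ≤ Y) (hY1 : Y ≠ ⊤) :
    Y = normalizer ((S : Subgroup N) : Set N) := by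
  haveI : Fact (Nat.Prime 2) := ⟨Nat.prime_two⟩
  obtain ⟨F, _, _, m, hm, hF, ⟨e⟩⟩ := h
  haveI : Suzuki.SzField F m := ⟨hF, hm⟩
  refine eq_normalizer_of_coatom (π := e.symm.toMonoidHom.comp (Suzuki.lieEquiv m).toMonoidHom)
    (e.symm.surjective.comp (Suzuki.lieEquiv m).surjective) (fun T => ?_) S hY hY1
  obtain ⟨k, hk⟩ := Suzuki.exists_conj_U m T
  rw [hk, ← map_equiv_normalizer_eq, Suzuki.normalizer_U]
  exact (OrderIso.isCoatom_iff (MulAut.conj k).mapSubgroup _).mpr (Suzuki.isCoatom_B m)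

end Cfsg.Agent.H76.PostBender
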