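import Cfsg.Agent.H76.PostBender.Basic
import Cfsg.Agent.H76.PostBender.Coatom
import Cfsg.Agent.Linear.TwoSL
import Cfsg.Prelude.Def_EvenType
import Cfsg.Prelude.Def_Amalgam
import Cfsg.Prelude.Def_Classification2

/-!
The structural forms of Bender's theorem (the statements S2798, S1792, S2903), given its form for simple
groups with the Suzuki groups identified up to isomorphism.
-/

set_option autoImplicit false
set_option linter.style.haveILetI false

namespace Cfsg.Agent.H76.PostBender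

open Subgroup
open Cfsg.Agent.H39

universe u

/-- The three families of Bender's theorem. -/
def IsBenderGroup (G : Type*) [Group G] : Prop :=
  (∃ (F : Type) (_ : Field F) (_ : Fintype F), CharP F 2 ∧ 4 ≤ Fintype.card F ∧
      Nonempty (G ≃* Matrix.ProjectiveSpecialLinearGroup (Fin 2) F)) ∨
    Cfsg.Lie.IsoSuzuki G ∨
    (∃ (F : Type) (_ : Field F) (_ : Fintype F) (q : ℕ), Fintype.card F = q ^ 2 ∧ Even q ∧ 4 ≤ q ∧
      Nonempty (G ≃* Cfsg.PSU 3 F q))

/-- Bender's theorem for simple groups. -/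
def BenderHyp : Prop :=
  ∀ (G : Type u) [Group G] [Finite G] [IsSimpleGroup G], (∃ a b : G, a * b ≠ b * a) →
    ∀ H : Subgroup G, Cfsg.IsStronglyEmbedded H → IsBenderGroup G

theorem charP_two_of_card {F : Type} [Field F] [Fintype F] {q : ℕ} (hF : Fintype.card F = q ^ 2)
    (hq : Even q) : CharP F 2 := by
  obtain ⟨p, hp⟩ := CharP.exists F
  obtain ⟨n, hp', hn⟩ := FiniteField.card F p
  have h2 : 2 ∣ p ^ (n : ℕ) := hn ▸ hF ▸ dvd_pow hq.two_dvd two_ne_zero
  obtain rfl := (Nat.prime_dvd_prime_iff_eq Nat.prime_two hp').mp (Nat.prime_two.dvd_of_dvd_pow h2)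
  exact hp

/-- In a group of Bender's list a strongly embedded subgroup is the normaliser of each of its Sylow
2-subgroups. -/
theorem eq_normalizer {G : Type*} [Group G] [Finite G] (hB : IsBenderGroup G) {H : Subgroup G}
    (hH : Cfsg.IsStronglyEmbedded H) :
    ∃ S : Sylow 2 G, H = normalizer ((S : Subgroup G) : Set G) := by
  haveI : Fact (Nat.Prime 2) := ⟨Nat.prime_two⟩
  obtain ⟨S, hS⟩ := se_exists_sylow_le hH
  refine ⟨S, ?_⟩
  have hne : (S : Subgroup G) ≠ ⊥ :=
    S.ne_bot_of_dvd_card ((even_iff_two_dvd.mp hH.2.1).trans (card_subgroup_dvd_card H))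
  have hle := normalizer_le_of_twoGroup hH S.isPGroup' hne hS
  rcases hB with ⟨F, _, _, hc, -, ⟨e⟩⟩ | h | ⟨F, _, _, q, hF, hq, -, ⟨e⟩⟩
  · haveI := hc
    exact psl_eq_normalizer e S hle hH.1
  · exact sz_eq_normalizer h S hle hH.1
  · haveI := charP_two_of_card hF hq
    exact psu_eq_normalizer hF e S hle hH.1

theorem nonempty_equiv_sl_two {G : Type*} [Group G] {F : Type} [Field F] [Fintype F] [CharP F 2]
    (e : G ≃* Matrix.ProjectiveSpecialLinearGroup (Fin 2) F) :
    Nonempty (G ≃* Matrix.SpecialLinearGroup (Fin 2) F) := by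
  have hc : center (Matrix.SpecialLinearGroup (Fin 2) F) = ⊥ := by
    rw [eq_bot_iff]
    intro a ha
    rcases Linear.mem_center_SL_two.mp ha with rfl | rfl
    · exact one_mem _
    · rw [mem_bot]
      refine Subtype.ext ?_
      ext i j
      fin_cases i <;> fin_cases j <;> simp [CharTwo.neg_eq]
  let em : Matrix.SpecialLinearGroup (Fin 2) F ≃* Matrix.ProjectiveSpecialLinearGroup (Fin 2) F :=
    MulEquiv.ofBijective (QuotientGroup.mk' _)
      ⟨by rw [← MonoidHom.ker_eq_bot_iff, QuotientGroup.ker_mk', hc], QuotientGroup.mk'_surjective _⟩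
  exact ⟨e.trans em.symm⟩

variable {G : Type u} [Group G] [Finite G] {X : Subgroup G}

theorem oddCore_le (hX : Cfsg.IsStronglyEmbedded X) {t v : G} (ht : orderOf t = 2) (hv : orderOf v = 2)
    (htX : t ∈ X) (hvX : v ∈ X) (htv : t ≠ v) (hc : Commute t v) : Cfsg.oddCore G ≤ X := by
  intro k hk
  have hN : ∀ g : G, g ∈ normalizer ((Cfsg.oddCore G : Subgroup G) : Set G) := fun g => by
    rw [normalizer_eq_top_iff.mpr inferInstance]; exact mem_top g
  have hfix : ∀ g ∈ X, g • (QuotientGroup.mk 1 : G ⧸ X) = QuotientGroup.mk 1 := fun g hg =>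
    se_smul_mk_eq_iff.mpr (by simpa using hg)
  simpa using se_smul_mk_eq_iff.mp (Cores.SE.four_odd_fix hX Cores.odd_card_oddCore ht hv htv hc (hN t)
    (hN v) (hfix t htX) (hfix v hvX) hk)

/-- What is needed of the quotient by the odd core. -/
theorem quotient_structure (hBend : BenderHyp.{u}) (hX : Cfsg.IsStronglyEmbedded X) {t v : G}
    (ht : orderOf t = 2) (hv : orderOf v = 2) (hc : Commute t v) (htv : t ≠ v) :
    Cfsg.oddCore G ≤ X ∧
      IsBenderGroup ↥(involClosure (G ⧸ Cfsg.oddCore G)) ∧ Odd (involClosure (G ⧸ Cfsg.oddCore G)).index ∧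
      Cfsg.IsStronglyEmbedded ((X.map (QuotientGroup.mk' (Cfsg.oddCore G))).subgroupOf
        (involClosure (G ⧸ Cfsg.oddCore G))) := by
  -- move the pair into `X`
  obtain ⟨g, hg⟩ := se_exists_conj_mem hX ht
  have hto : orderOf (g⁻¹ * t * g) = 2 := by simpa [ht] using orderOf_conj g⁻¹ t
  have hvo : orderOf (g⁻¹ * v * g) = 2 := by simpa [hv] using orderOf_conj g⁻¹ v
  have hgc : Commute (g⁻¹ * t * g) (g⁻¹ * v * g) := by
    show _ = _
    calc g⁻¹ * t * g * (g⁻¹ * v * g) = g⁻¹ * (t * v) * g := by group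
      _ = g⁻¹ * v * g * (g⁻¹ * t * g) := by rw [hc.eq]; group
  have hvg : g⁻¹ * v * g ∈ X := mem_of_commute hX hto hg hgc.symm
  have hne : g⁻¹ * t * g ≠ g⁻¹ * v * g := fun h => htv (mul_left_cancel (mul_right_cancel h))
  generalize g⁻¹ * t * g = a at hg hto hgc hne
  generalize g⁻¹ * v * g = b at hvg hvo hgc hne
  have hO := oddCore_le hX hto hvo hg hvg hne hgc
  refine ⟨hO, ?_⟩
  set O := Cfsg.oddCore G with hOdef
  set π := QuotientGroup.mk' O with hπ
  have hker : ∀ x, π x = 1 ↔ x ∈ O := fun x => QuotientGroup.eq_one_iff x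
  have hcomap : (X.map π).comap π = X := by
    rw [comap_map_eq, hπ, QuotientGroup.ker_mk', sup_eq_left.mpr hO]
  have hlift : ∀ y : G, orderOf y = 2 → orderOf (π y) = 2 := by
    intro y hy
    refine orderOf_eq_two_of_mul_self (by rw [← map_mul, mul_self_of_orderOf_eq_two hy, map_one]) ?_
    intro h
    have hd := orderOf_dvd_natCard (⟨y, (hker y).mp h⟩ : O)
    rw [Subgroup.orderOf_mk, hy, ← even_iff_two_dvd] at hd
    exact Nat.not_even_iff_odd.mpr Cores.odd_card_oddCore hd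
  have hXbar : Cfsg.IsStronglyEmbedded (X.map π) := by
    refine (H26.isStronglyEmbedded_iff_involution _ (fun h => hX.1 (by rw [← hcomap, h, comap_top])) ?_).mpr ?_
    · rw [even_iff_two_dvd]
      have hd := orderOf_dvd_natCard (⟨π a, mem_map_of_mem π hg⟩ : X.map π)
      rwa [Subgroup.orderOf_mk, hlift a hto] at hd
    · rintro s ⟨x, hxX, rfl⟩ hs gq hgq
      obtain ⟨h, rfl⟩ := QuotientGroup.mk'_surjective O gq
      have hxO : x ∉ O := fun h' => by rw [(hker x).mpr h', orderOf_one] at hs; omega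
      have hxx : x * x ∈ O := (hker _).mp (by rw [map_mul, mul_self_of_orderOf_eq_two hs])
      obtain ⟨k, hk⟩ := H29.Bender.exists_involution_of_sq Cores.odd_card_oddCore hxx hxO
      set t' := x * (x * x) ^ k
      have ht' : π t' = π x := by rw [map_mul, map_pow, (hker _).mpr hxx, one_pow, mul_one]
      refine mem_map_of_mem π (se_mem_of_conj hX hk (mul_mem hxX (pow_mem (mul_mem hxX hxX) k)) ?_)
      rw [← hcomap, mem_comap, map_mul, map_mul, map_inv, ht']
      exact hgq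
  have hO1 : Cfsg.oddCore (G ⧸ O) = ⊥ := Cores.pPrimeCore_quotient_pPrimeCore
  haveI := involClosure_normal (G := G ⧸ O)
  set L := involClosure (G ⧸ O) with hL
  obtain ⟨hsimp, hna⟩ := involClosure_simple hXbar hO1
  have hSE : Cfsg.IsStronglyEmbedded ((X.map π).subgroupOf L) :=
    isSE_subgroupOf hXbar (involClosure_not_le hXbar) (hlift a hto) (mem_map_of_mem π hg)
      (subset_closure (hlift a hto))
  haveI := hsimp
  have hB : IsBenderGroup ↥L := hBend L hna _ hSE
  obtain ⟨S, hS⟩ := eq_normalizer hB hSE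
  refine ⟨hB, odd_index hXbar (fun x hx => subset_closure hx) hS ⟨π a, π b, hlift a hto, hlift b hvo,
    mem_map_of_mem π hg, mem_map_of_mem π hvg, fun h => hne ?_⟩, hSE⟩
  have hab : orderOf (a * b) ∣ 2 := orderOf_dvd_of_pow_eq_one (by
    rw [pow_two, mul_assoc, ← mul_assoc b, ← hgc.eq, mul_assoc, mul_self_of_orderOf_eq_two hvo, mul_one,
      mul_self_of_orderOf_eq_two hto])
  have hmem : a * b ∈ O := (hker _).mp (by
    rw [map_mul, h, ← map_mul, mul_self_of_orderOf_eq_two hvo, map_one])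
  rcases (Nat.dvd_prime Nat.prime_two).mp hab with h1 | h1
  · have := orderOf_eq_one_iff.mp h1
    rw [← inv_eq_of_orderOf_eq_two hvo]
    exact mul_eq_one_iff_eq_inv.mp this
  · have hd := orderOf_dvd_natCard (⟨_, hmem⟩ : O)
    rw [Subgroup.orderOf_mk, h1, ← even_iff_two_dvd] at hd
    exact absurd hd (Nat.not_even_iff_odd.mpr Cores.odd_card_oddCore)

/-- If every involution centraliser has one involution, the group is `O(G)C(t)` (Brauer-Suzuki, Glauberman). -/
theorem top_of_single {t : G} (ht : orderOf t = 2)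
    (h1 : ∀ s w : G, orderOf s = 2 → orderOf w = 2 → Commute s w → s = w) :
    Cfsg.pPrimeCore 2 G ⊔ centralizer ({t} : Set G) = ⊤ := by
  haveI : Fact (Nat.Prime 2) := ⟨Nat.prime_two⟩
  obtain ⟨P, hP⟩ := (IsPGroup.of_card (n := 1)
    (show Nat.card (zpowers t) = 2 ^ 1 by rw [Nat.card_zpowers, ht, pow_one])).exists_le_sylow
  have htP : t ∈ P := hP (mem_zpowers t)
  haveI : Nontrivial (P : Subgroup G) := ⟨⟨⟨t, htP⟩, 1, fun h =>
    ne_one_of_orderOf_eq_two ht (congrArg Subtype.val h)⟩⟩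
  haveI := P.isPGroup'.center_nontrivial
  obtain ⟨n, hn, hc⟩ := (P.isPGroup'.to_subgroup (center (P : Subgroup G))).nontrivial_iff_card.mp inferInstance
  obtain ⟨z, hz⟩ := exists_prime_orderOf_dvd_card' (G := center (P : Subgroup G)) 2
    (hc ▸ dvd_pow_self 2 hn.ne')
  have hz2 : orderOf ((z : (P : Subgroup G)) : G) = 2 := by rw [Subgroup.orderOf_coe, Subgroup.orderOf_coe, hz]
  have huniq : ∀ s ∈ (P : Subgroup G), orderOf s = 2 → s = ((z : (P : Subgroup G)) : G) := fun s hs hs2 =>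
    h1 s _ hs2 hz2 (congrArg Subtype.val (mem_center_iff.mp z.2 ⟨s, hs⟩))
  have hiso := Cores.glaubermanZStar P ht htP fun g hg =>
    (huniq _ hg (by rw [orderOf_conj, ht])).trans (huniq _ htP ht).symm
  refine eq_top_iff.mpr fun g _ => ?_
  have hodd : Odd (orderOf (t * (g * t * g⁻¹))) := by
    have hm := hiso g
    have he : t * (g * t * g⁻¹) = t * g * t⁻¹ * g⁻¹ := by rw [inv_eq_of_orderOf_eq_two ht]; group
    rw [← he] at hm
    rw [← Subgroup.orderOf_mk _ hm]
    exact Cores.odd_card_oddCore.of_dvd_nat (orderOf_dvd_natCard _)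
  obtain ⟨k, hk, -, -, hkc⟩ := exists_conj_of_odd (a := g * t * g⁻¹) (b := t) (by rw [orderOf_conj, ht]) ht hodd
  have hkO : k ∈ Cfsg.pPrimeCore 2 G := by
    refine (zpowers_le.mpr ?_) hk
    have hm := hiso g
    have he : t * (g * t * g⁻¹) = t * g * t⁻¹ * g⁻¹ := by rw [inv_eq_of_orderOf_eq_two ht]; group
    rw [he]; exact hm
  have hC : k * g ∈ centralizer ({t} : Set G) := by
    refine mem_centralizer_singleton_iff.mpr ?_
    calc k * g * t = k * (g * t * g⁻¹) * k⁻¹ * (k * g) := by group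
      _ = t * (k * g) := by rw [hkc]
  have := mul_mem (inv_mem (mem_sup_left (T := centralizer ({t} : Set G)) hkO)) (mem_sup_right hC)
  rwa [inv_mul_cancel_left] at this

theorem pElementClosure_top {K : Type*} [Group K] [Finite K] (h : Odd (involClosure K).index) :
    Cfsg.pElementClosure 2 (⊤ : Subgroup K) = involClosure K := by
  haveI := involClosure_normal (G := K)
  refine le_antisymm ((closure_le _).mpr ?_) ((closure_le _).mpr fun x (hx : orderOf x = 2) =>
    subset_closure ⟨mem_top x, 1, by rw [hx, pow_one]⟩)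
  rintro x ⟨-, k, hk⟩
  rw [SetLike.mem_coe, ← QuotientGroup.eq_one_iff, ← orderOf_eq_one_iff]
  have h1 : orderOf (QuotientGroup.mk x : K ⧸ involClosure K) ∣ 2 ^ k :=
    hk ▸ orderOf_map_dvd (QuotientGroup.mk' (involClosure K)) x
  have h2 : orderOf (QuotientGroup.mk x : K ⧸ involClosure K) ∣ (involClosure K).index :=
    orderOf_dvd_natCard _
  exact Nat.eq_one_of_dvd_coprimes ((Nat.coprime_two_left.mpr h).pow_left k) h1 h2

/-- The statement of S2798. -/
theorem structure_theorem (hBend : BenderHyp.{u}) (hX : Cfsg.IsStronglyPEmbedded 2 X) :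
    (∀ t : G, orderOf t = 2 → Cfsg.pPrimeCore 2 G ⊔ centralizer ({t} : Set G) = ⊤ ∧
        ∀ u ∈ centralizer ({t} : Set G), orderOf u = 2 → u = t) ∨
      (∃ (F : Type) (_ : Field F) (_ : Fintype F), CharP F 2 ∧ 4 ≤ Fintype.card F ∧
        Nonempty (↥(Cfsg.pElementClosure 2 (⊤ : Subgroup (G ⧸ Cfsg.pPrimeCore 2 G))) ≃*
          Matrix.SpecialLinearGroup (Fin 2) F)) ∨
      (∃ (F : Type) (_ : Field F) (_ : Fintype F) (q : ℕ), Even q ∧ 4 ≤ q ∧ Fintype.card F = q ^ 2 ∧
        Nonempty (↥(Cfsg.pElementClosure 2 (⊤ : Subgroup (G ⧸ Cfsg.pPrimeCore 2 G))) ≃* Cfsg.PSU 3 F q)) ∨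
      Cfsg.Lie.IsoSuzuki ↥(Cfsg.pElementClosure 2 (⊤ : Subgroup (G ⧸ Cfsg.pPrimeCore 2 G))) := by
  by_cases h1 : ∀ s w : G, orderOf s = 2 → orderOf w = 2 → Commute s w → s = w
  · exact Or.inl fun t ht => ⟨top_of_single ht h1, fun w hw hw2 =>
      h1 w t hw2 ht (mem_centralizer_singleton_iff.mp hw)⟩
  right
  push Not at h1
  obtain ⟨t, v, ht, hv, hc, htv⟩ := h1
  obtain ⟨-, hB, hodd, -⟩ := quotient_structure hBend (isSE_of_pEmbedded hX) ht hv hc htv
  change Odd (involClosure (G ⧸ Cfsg.pPrimeCore 2 G)).index at hodd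
  rw [pElementClosure_top hodd]
  rcases hB with ⟨F, _, _, hch, h4, ⟨e⟩⟩ | h | ⟨F, _, _, q, hF, hq, h4, he⟩
  · exact Or.inl ⟨F, _, _, hch, h4, haveI := hch; nonempty_equiv_sl_two e⟩
  · exact Or.inr (Or.inr h)
  · exact Or.inr (Or.inl ⟨F, _, _, q, hq, h4, hF, he⟩)

/-- The statement of S2903. -/
theorem solvable_stronglyEmbedded (hBend : BenderHyp.{u}) (hrank : Cfsg.PRankAtLeast 2 2 G)
    (hX : Cfsg.IsStronglyPEmbedded 2 X) : Group.IsSolvable ↥X := by
  haveI : Fact (Nat.Prime 2) := ⟨Nat.prime_two⟩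
  obtain ⟨A, hAc, hA2, hA4⟩ := hrank
  haveI := Fintype.ofFinite A
  obtain ⟨a, b, c, hab, hac, hbc⟩ := Fintype.two_lt_card_iff.mp
    (show 2 < Fintype.card A by
      have h := Nat.card_eq_fintype_card (α := ↥A)
      norm_num at hA4
      omega)
  obtain ⟨t, v, ht, hv, htv⟩ : ∃ t v : A, t ≠ 1 ∧ v ≠ 1 ∧ t ≠ v := by
    by_cases ha : a = 1
    · exact ⟨b, c, fun h => hab (ha.trans h.symm), fun h => hac (ha.trans h.symm), hbc⟩
    by_cases hb : b = 1
    · exact ⟨a, c, ha, fun h => hbc (hb.trans h.symm), hac⟩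
    exact ⟨a, b, ha, hb, hab⟩
  have hord : ∀ w : A, w ≠ 1 → orderOf ((w : A) : G) = 2 := fun w hw =>
    orderOf_eq_two_of_mul_self (by rw [← pow_two]; exact hA2 _ w.2) fun h => hw (Subtype.ext h)
  obtain ⟨hO, hB, hodd, hSE⟩ := quotient_structure hBend (isSE_of_pEmbedded hX) (hord t ht) (hord v hv)
    (congrArg Subtype.val (hAc.1.comm t v)) fun h => htv (Subtype.ext h)
  haveI := involClosure_normal (G := G ⧸ Cfsg.oddCore G)
  set L := involClosure (G ⧸ Cfsg.oddCore G)
  set Y := (X.map (QuotientGroup.mk' (Cfsg.oddCore G))).subgroupOf L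
  obtain ⟨S, hS⟩ := eq_normalizer hB hSE
  haveI hSn : ((S : Subgroup ↥L).subgroupOf Y).Normal := by rw [hS]; exact normal_in_normalizer
  have hY : Group.IsSolvable ↥Y := by
    haveI : Group.IsNilpotent ↥((S : Subgroup ↥L).subgroupOf Y) :=
      (S.isPGroup'.comap_of_injective Y.subtype Y.subtype_injective).isNilpotent
    haveI hq : Group.IsSolvable (↥Y ⧸ (S : Subgroup ↥L).subgroupOf Y) :=
      S0205.result (Nat.not_even_iff_odd.mp fun he => S.not_dvd_index
        ((even_iff_two_dvd.mp he).trans (relIndex_dvd_index_of_le (hS ▸ le_normalizer))))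
    exact Group.isSolvable_of_ker_le_range ((S : Subgroup ↥L).subgroupOf Y).subtype
      (QuotientGroup.mk' ((S : Subgroup ↥L).subgroupOf Y)) (by rw [QuotientGroup.ker_mk', range_subtype])
  -- `X` maps into `(G/O)/L` with kernel over `Y`
  haveI hq : Group.IsSolvable ((G ⧸ Cfsg.oddCore G) ⧸ L) := S0205.result hodd
  set ψ := ((QuotientGroup.mk' L).comp (QuotientGroup.mk' (Cfsg.oddCore G))).comp X.subtype
  haveI hker : Group.IsSolvable ↥ψ.ker := by
    let χ : ↥ψ.ker →* ↥Y := MonoidHom.codRestrict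
      ((((QuotientGroup.mk' (Cfsg.oddCore G)).comp X.subtype).comp ψ.ker.subtype).codRestrict L
        fun k => (QuotientGroup.eq_one_iff _).mp k.2) Y fun k => ⟨k.1.1, k.1.2, rfl⟩
    haveI : Group.IsSolvable ↥(Cfsg.oddCore G) := S0205.result Cores.odd_card_oddCore
    haveI : Group.IsSolvable ↥χ.ker := by
      let j : ↥χ.ker →* ↥(Cfsg.oddCore G) := ((X.subtype.comp ψ.ker.subtype).comp χ.ker.subtype).codRestrict _
        fun k => (QuotientGroup.eq_one_iff _).mp
          (congrArg (fun y : ↥Y => ((y : ↥L) : G ⧸ Cfsg.oddCore G)) k.2)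
      exact Group.isSolvable_of_isSolvable_injective (f := j) fun k l h =>
        Subtype.ext (Subtype.ext (Subtype.ext (Subtype.ext_iff.mp h :)))
    exact Group.isSolvable_of_ker_le_range χ.ker.subtype χ (by rw [range_subtype])
  exact Group.isSolvable_of_ker_le_range ψ.ker.subtype ψ (by rw [range_subtype])

/-- The statement of S1792. -/
theorem maximal_classification [IsSimpleGroup G] (hBend : BenderHyp.{u}) (hG : ¬ IsMulCommutative G)
    (M : Subgroup G) (hM : Cfsg.IsStronglyPEmbedded 2 M) :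
    ((∃ (F : Type) (_ : Field F) (_ : Fintype F) (n : ℕ), 2 ≤ n ∧ Fintype.card F = 2 ^ n ∧
        Nonempty (G ≃* Matrix.ProjectiveSpecialLinearGroup (Fin 2) F)) ∨
      Cfsg.Lie.IsoSuzuki G ∨
      (∃ (F : Type) (_ : Field F) (_ : Fintype F) (n : ℕ), 2 ≤ n ∧ Fintype.card F = (2 ^ n) ^ 2 ∧
        Nonempty (G ≃* Cfsg.PSU 3 F (2 ^ n)))) ∧
    ∃ S : Sylow 2 G, M = normalizer ((S : Subgroup G) : Set G) := by
  have hna : ∃ a b : G, a * b ≠ b * a := by
    by_contra h
    push Not at h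
    exact hG ⟨⟨h⟩⟩
  have hSE := isSE_of_pEmbedded hM
  have hB := hBend G hna M hSE
  refine ⟨?_, eq_normalizer hB hSE⟩
  rcases hB with ⟨F, _, _, hch, h4, he⟩ | h | ⟨F, _, _, q, hF, hq, h4, he⟩
  · obtain ⟨n, -, hn⟩ := FiniteField.card F 2
    refine Or.inl ⟨F, _, _, n, ?_, hn, he⟩
    by_contra hlt
    have := Nat.pow_le_pow_right (show 1 ≤ 2 by norm_num) (Nat.lt_succ_iff.mp (not_le.mp hlt))
    omega
  · exact Or.inr (Or.inl h)
  · haveI := charP_two_of_card hF hq
    obtain ⟨n, -, hn⟩ := FiniteField.card F 2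
    obtain ⟨j, -, rfl⟩ := (Nat.dvd_prime_pow Nat.prime_two).mp
      (show q ∣ 2 ^ (n : ℕ) by rw [← hn, hF]; exact dvd_pow_self q two_ne_zero)
    refine Or.inr (Or.inr ⟨F, _, _, j, ?_, hF, he⟩)
    by_contra hlt
    have := Nat.pow_le_pow_right (show 1 ≤ 2 by norm_num) (Nat.lt_succ_iff.mp (not_le.mp hlt))
    omega

end Cfsg.Agent.H76.PostBender
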