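import Cfsg.Agent.S0205
import Cfsg.Agent.H39.StronglyEmbedded
import Cfsg.Agent.H26.StronglyEmbedded
import Cfsg.Agent.H29.Bender.Sylow
import Cfsg.Agent.H60.PEmbedded
import Cfsg.Agent.Cores.GlaubermanZStar
import Cfsg.Agent.Cores.SE.Point
import Cfsg.Agent.Hall.SchurZassenhaus

/-!
General facts on strongly embedded subgroups used to derive the structural forms of Bender's theorem from
its form for simple groups.
-/

set_option autoImplicit false
set_option linter.style.haveILetI false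

namespace Cfsg.Agent.H76.PostBender

open Subgroup
open scoped Pointwise
open Cfsg.Agent.H39

variable {G : Type*} [Group G] [Finite G] {H : Subgroup G}

theorem isSE_of_pEmbedded (h : Cfsg.IsStronglyPEmbedded 2 H) : Cfsg.IsStronglyEmbedded H := by
  haveI : Fact (Nat.Prime 2) := ⟨Nat.prime_two⟩
  obtain ⟨hd, hne, P, hP⟩ := FusionSys.isStronglyPEmbedded_iff.mp h
  have hP1 : (P : Subgroup G) ≠ ⊥ := P.ne_bot_of_dvd_card hd
  have hPH : (P : Subgroup G) ≤ H := le_normalizer.trans (hP _ le_rfl hP1)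
  have heven : Even (Nat.card H) := by
    rw [even_iff_two_dvd]
    obtain ⟨n, hn⟩ := IsPGroup.iff_card.mp P.isPGroup'
    have hn0 : n ≠ 0 := fun h0 => hP1 (card_eq_one.mp (by rw [hn, h0, pow_zero]))
    exact (hn ▸ dvd_pow_self 2 hn0).trans (card_dvd_of_le hPH)
  refine (H26.isStronglyEmbedded_iff_involution H hne heven).mpr fun t ht ht2 g hg => ?_
  refine H60.pEmb_mem_of_conj h (R := zpowers t)
    (IsPGroup.of_card (n := 1) (by rw [Nat.card_zpowers, ht2, pow_one])) ?_ (zpowers_le.mpr ht) ?_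
  · intro h0
    have ht1 := mem_zpowers t
    rw [h0, mem_bot] at ht1
    rw [ht1, orderOf_one] at ht2
    omega
  · rintro _ ⟨x, hx, rfl⟩
    obtain ⟨k, rfl⟩ := mem_zpowers_iff.mp hx
    show g * t ^ k * g⁻¹ ∈ H
    rw [← conj_zpow]
    exact zpow_mem hg k

theorem centralizer_le (hH : Cfsg.IsStronglyEmbedded H) {t : G} (ht : orderOf t = 2) (htH : t ∈ H) :
    centralizer ({t} : Set G) ≤ H := fun g hg => se_mem_of_conj hH ht htH (by
  rw [mem_centralizer_singleton_iff.mp hg, mul_inv_cancel_right]; exact htH)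

theorem mem_of_commute (hH : Cfsg.IsStronglyEmbedded H) {t u : G} (ht : orderOf t = 2) (htH : t ∈ H)
    (hc : Commute u t) : u ∈ H :=
  centralizer_le hH ht htH (mem_centralizer_singleton_iff.mpr hc.eq)

/-- Involutions of `H` are conjugate in `H`. -/
theorem exists_conj_in (hH : Cfsg.IsStronglyEmbedded H) {a b : G} (ha : orderOf a = 2) (haH : a ∈ H)
    (hb : orderOf b = 2) (hbH : b ∈ H) : ∃ h ∈ H, h * a * h⁻¹ = b := by
  obtain ⟨g, hg⟩ := isConj_iff.mp (se_involutions_conj hH ha hb)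
  exact ⟨g, se_mem_of_conj hH ha haH (hg ▸ hbH), hg⟩

theorem exists_invol_not_mem (hH : Cfsg.IsStronglyEmbedded H) : ∃ s : G, orderOf s = 2 ∧ s ∉ H := by
  obtain ⟨g, hg⟩ : ∃ g : G, g ∉ H := by
    by_contra h
    push Not at h
    exact hH.1 (eq_top_iff.mpr fun x _ => h x)
  obtain ⟨t, ht, htH⟩ := se_exists_involution hH
  exact ⟨g * t * g⁻¹, by rw [orderOf_conj, ht], fun h => hg (se_mem_of_conj hH ht htH h)⟩

theorem normalizer_le_of_twoGroup (hH : Cfsg.IsStronglyEmbedded H) {S : Subgroup G} (hS : IsPGroup 2 S)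
    (hS1 : S ≠ ⊥) (hSH : S ≤ H) : normalizer (S : Set G) ≤ H := by
  haveI : Fact (Nat.Prime 2) := ⟨Nat.prime_two⟩
  haveI : Nontrivial S := (nontrivial_iff_ne_bot S).mpr hS1
  obtain ⟨n, hn, hcard⟩ := hS.nontrivial_iff_card.mp inferInstance
  obtain ⟨t, ht⟩ := exists_prime_orderOf_dvd_card' (G := S) 2 (hcard ▸ dvd_pow_self 2 hn.ne')
  intro g hg
  exact se_mem_of_conj hH (by rw [Subgroup.orderOf_coe, ht]) (hSH t.2)
    (hSH ((mem_normalizer_iff.mp hg _).mp t.2))

/-- A normal subgroup containing an involution contains all of them. -/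
theorem invol_mem_of_normal (hH : Cfsg.IsStronglyEmbedded H) {N : Subgroup G} [N.Normal] {a b : G}
    (ha : orderOf a = 2) (haN : a ∈ N) (hb : orderOf b = 2) : b ∈ N := by
  obtain ⟨g, rfl⟩ := isConj_iff.mp (se_involutions_conj hH ha hb)
  exact Subgroup.Normal.conj_mem inferInstance a haN g

theorem isSE_subgroupOf (hH : Cfsg.IsStronglyEmbedded H) {L : Subgroup G} (hLH : ¬ L ≤ H) {t : G}
    (ht : orderOf t = 2) (htH : t ∈ H) (htL : t ∈ L) :
    Cfsg.IsStronglyEmbedded (H.subgroupOf L) := by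
  refine (H26.isStronglyEmbedded_iff_involution _ (fun h => hLH (subgroupOf_eq_top.mp h)) ?_).mpr
    fun s hs hs2 g hg => se_mem_of_conj hH (t := (s : G)) (by rw [Subgroup.orderOf_coe, hs2]) hs hg
  rw [even_iff_two_dvd]
  have h2 : orderOf (⟨⟨t, htL⟩, htH⟩ : H.subgroupOf L) = 2 := by
    rw [← Subgroup.orderOf_coe, ← Subgroup.orderOf_coe]; exact ht
  exact h2 ▸ orderOf_dvd_natCard _

/-- The subgroup generated by the involutions. -/
abbrev involClosure (G : Type*) [Group G] : Subgroup G := closure {x : G | orderOf x = 2}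

theorem involClosure_normal : (involClosure G).Normal := by
  constructor
  intro x hx g
  have hle : involClosure G ≤ (involClosure G).comap (MulAut.conj g).toMonoidHom :=
    (closure_le _).mpr fun y (hy : orderOf y = 2) => by
      show g * y * g⁻¹ ∈ involClosure G
      exact subset_closure (show orderOf (g * y * g⁻¹) = 2 by rw [orderOf_conj, hy])
  exact hle hx

theorem involClosure_not_le (hH : Cfsg.IsStronglyEmbedded H) : ¬ involClosure G ≤ H := fun h => by
  obtain ⟨s, hs, hsH⟩ := exists_invol_not_mem hH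
  exact hsH (h (subset_closure hs))

theorem involClosure_simple (hH : Cfsg.IsStronglyEmbedded H) (hO : Cfsg.oddCore G = ⊥) :
    IsSimpleGroup ↥(involClosure G) ∧ ∃ a b : ↥(involClosure G), a * b ≠ b * a := by
  haveI := involClosure_normal (G := G)
  set L := involClosure G with hLdef
  obtain ⟨t, ht, htH⟩ := se_exists_involution hH
  have htL : t ∈ L := subset_closure ht
  have hLH := involClosure_not_le hH
  have hSE := isSE_subgroupOf hH hLH ht htH htL
  haveI : Nontrivial L := ⟨⟨⟨t, htL⟩, 1, fun h => ne_one_of_orderOf_eq_two ht (congrArg Subtype.val h)⟩⟩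
  refine ⟨⟨fun K hK => ?_⟩, ?_⟩
  · haveI := hK
    rcases Nat.even_or_odd (Nat.card K) with heven | hodd
    · refine Or.inr (eq_top_iff.mpr ?_)
      obtain ⟨a, ha⟩ := exists_prime_orderOf_dvd_card' 2 (even_iff_two_dvd.mp heven)
      have hle : L ≤ K.map L.subtype := (closure_le _).mpr fun y (hy : orderOf y = 2) => by
        refine ⟨⟨y, subset_closure hy⟩, ?_, rfl⟩
        exact invol_mem_of_normal hSE (N := K) (a := (a : L)) (by rw [Subgroup.orderOf_coe, ha]) a.2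
          (by rw [← Subgroup.orderOf_coe]; exact hy)
      intro x _
      obtain ⟨k, hk, hkx⟩ := hle x.2
      rwa [← Subtype.ext hkx]
    · refine Or.inl (le_bot_iff.mp ?_)
      have h1 : (Cfsg.oddCore ↥L).map L.subtype = ⊥ := by
        haveI : (Cfsg.oddCore ↥L).Characteristic := Cores.pPrimeCore_characteristic
        haveI : ((Cfsg.oddCore ↥L).map L.subtype).Normal := Cores.map_subtype_normal
        refine le_bot_iff.mp ((Cores.le_oddCore ?_).trans hO.le)
        rw [card_map_of_injective L.subtype_injective]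
        exact Cores.odd_card_oddCore
      exact (Cores.le_oddCore hodd).trans
        ((map_eq_bot_iff_of_injective _ L.subtype_injective).mp h1).le
  · by_contra h
    push Not at h
    exact hLH fun x hx => mem_of_commute hH ht htH (congrArg Subtype.val (h ⟨x, hx⟩ ⟨t, htL⟩))

/-- If the strongly embedded subgroup of `L` normalises its Sylow 2-subgroup, the index of `L` is odd. -/
theorem odd_index (hH : Cfsg.IsStronglyEmbedded H) {L : Subgroup G} [L.Normal]
    (hinv : ∀ x : G, orderOf x = 2 → x ∈ L) {S : Sylow 2 ↥L}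
    (hS : H.subgroupOf L = normalizer ((S : Subgroup ↥L) : Set ↥L))
    (h2 : ∃ t u : G, orderOf t = 2 ∧ orderOf u = 2 ∧ t ∈ H ∧ u ∈ H ∧ t ≠ u) : Odd L.index := by
  haveI : Fact (Nat.Prime 2) := ⟨Nat.prime_two⟩
  obtain ⟨t, u, ht, hu, htH, huH, htu⟩ := h2
  set Y := H ⊓ L with hYdef
  set S' := (S : Subgroup ↥L).map L.subtype with hS'def
  have hSL : S' ≤ L := map_subtype_le _
  have hYS : ∀ y ∈ Y, ∀ s ∈ S', y * s * y⁻¹ ∈ S' := by
    rintro y ⟨hyH, hyL⟩ _ ⟨s, hs, rfl⟩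
    have hy : (⟨y, hyL⟩ : L) ∈ normalizer ((S : Subgroup ↥L) : Set ↥L) := by rw [← hS]; exact hyH
    exact ⟨⟨y, hyL⟩ * s * ⟨y, hyL⟩⁻¹, (mem_normalizer_iff.mp hy s).mp hs, rfl⟩
  have hSY : S' ≤ Y := by
    rintro _ ⟨s, hs, rfl⟩
    exact ⟨hS.ge (le_normalizer hs), s.2⟩
  have hS'p : IsPGroup 2 S' := S.isPGroup'.map _
  -- `S'` is the largest 2-subgroup of `Y`
  have hmax : ∀ Q : Subgroup G, IsPGroup 2 Q → Q ≤ Y → Q ≤ S' := by
    intro Q hQ hQY x hx
    have hQL : Q.subgroupOf L ≤ normalizer ((S : Subgroup ↥L) : Set ↥L) := fun z hz => hS.le (hQY hz).1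
    have hp : IsPGroup 2 (Q.subgroupOf L ⊔ (S : Subgroup ↥L) : Subgroup ↥L) :=
      (hQ.comap_of_injective L.subtype L.subtype_injective).to_sup_of_normal_right' S.isPGroup' hQL
    have he := S.3 hp le_sup_right
    exact ⟨⟨x, (hQY hx).2⟩, he ▸ mem_sup_left (show (⟨x, (hQY hx).2⟩ : L) ∈ Q.subgroupOf L from hx), rfl⟩
  have hinvS : ∀ x : G, orderOf x = 2 → x ∈ H → x ∈ S' := fun x hx hxH =>
    hmax (zpowers x) (IsPGroup.of_card (n := 1) (by rw [Nat.card_zpowers, hx, pow_one]))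
      (zpowers_le.mpr ⟨hxH, hinv x hx⟩) (mem_zpowers x)
  -- `H` normalises `S'`
  have hHS : ∀ h ∈ H, ∀ s ∈ S', h * s * h⁻¹ ∈ S' := by
    intro h hh s hs
    refine hmax (S'.map (MulAut.conj h).toMonoidHom) (hS'p.map _) ?_ ⟨s, hs, rfl⟩
    rintro _ ⟨r, hr, rfl⟩
    exact mem_inf.mpr ⟨mul_mem (mul_mem hh (hSY hr).1) (inv_mem hh),
      Normal.conj_mem inferInstance r (hSY hr).2 h⟩
  -- all involutions of `H` are central in `S'`
  obtain ⟨z₀, hz₀S, hz₀2, hz₀c⟩ : ∃ z ∈ S', orderOf z = 2 ∧ ∀ s ∈ S', Commute s z := by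
    haveI : Nontrivial S' := ⟨⟨⟨t, hinvS t ht htH⟩, ⟨u, hinvS u hu huH⟩,
      fun h => htu (congrArg Subtype.val h)⟩⟩
    haveI := hS'p.center_nontrivial
    obtain ⟨n, hn, hc⟩ := (hS'p.to_subgroup (center S')).nontrivial_iff_card.mp inferInstance
    obtain ⟨z, hz⟩ := exists_prime_orderOf_dvd_card' (G := center S') 2 (hc ▸ dvd_pow_self 2 hn.ne')
    exact ⟨((z : S') : G), (z : S').2, by rw [Subgroup.orderOf_coe, Subgroup.orderOf_coe, hz],
      fun s hs => congrArg Subtype.val (mem_center_iff.mp z.2 ⟨s, hs⟩)⟩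
  have hinvY : ∀ x : G, orderOf x = 2 → x ∈ H → ∃ y ∈ Y, y * z₀ * y⁻¹ = x := by
    intro x hx hxH
    have hz₀ := hSY hz₀S
    have hSE' := isSE_subgroupOf hH (fun hle => ?_) ht htH (hinv t ht)
    · obtain ⟨y, hy, hyx⟩ := exists_conj_in hSE' (a := ⟨z₀, hz₀.2⟩) (b := ⟨x, hinv x hx⟩)
        (by rw [← Subgroup.orderOf_coe]; exact hz₀2) hz₀.1 (by rw [← Subgroup.orderOf_coe]; exact hx) hxH
      exact ⟨y, ⟨hy, y.2⟩, congrArg Subtype.val hyx⟩
    · obtain ⟨s, hs, hsH⟩ := exists_invol_not_mem hH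
      exact hsH (hle (hinv s hs))
  have hcent : ∀ x : G, orderOf x = 2 → x ∈ H → ∀ s ∈ S', Commute s x := by
    intro x hx hxH s hs
    obtain ⟨y, hy, rfl⟩ := hinvY x hx hxH
    have h1 := hz₀c _ (hYS y⁻¹ (inv_mem hy) s hs)
    have h2 := congrArg (fun a => y * a * y⁻¹) h1.eq
    show s * (y * z₀ * y⁻¹) = y * z₀ * y⁻¹ * s
    calc s * (y * z₀ * y⁻¹) = y * (y⁻¹ * s * y⁻¹⁻¹ * z₀) * y⁻¹ := by group
      _ = y * (z₀ * (y⁻¹ * s * y⁻¹⁻¹)) * y⁻¹ := h2
      _ = y * z₀ * y⁻¹ * s := by group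
  -- a complement of `S'` in `Y`
  haveI hSn : (S'.subgroupOf Y).Normal := ⟨fun a ha y => hYS y y.2 a ha⟩
  have hcop : (Nat.card (S'.subgroupOf Y)).Coprime (S'.subgroupOf Y).index := by
    obtain ⟨k, hk⟩ := IsPGroup.iff_card.mp (hS'p.comap_of_injective Y.subtype Y.subtype_injective)
    rw [show S'.subgroupOf Y = S'.comap Y.subtype from rfl, hk]
    refine Nat.Coprime.pow_left k (Nat.prime_two.coprime_iff_not_dvd.mpr fun hd => ?_)
    have h1 : S'.relIndex Y ∣ S'.relIndex L := ⟨_, (relIndex_mul_relIndex S' Y L hSY inf_le_right).symm⟩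
    have h2 : S'.relIndex L = (S : Subgroup ↥L).index := by
      rw [relIndex, hS'def, subgroupOf, comap_map_eq_self_of_injective L.subtype_injective]
    exact S.not_dvd_index (h2 ▸ hd.trans h1)
  obtain ⟨D₀, hD₀⟩ := exists_right_complement'_of_coprime hcop
  set D := D₀.map Y.subtype with hDdef
  have hDY : D ≤ Y := map_subtype_le _
  have hCD : ∀ s ∈ S', (∀ d ∈ D, Commute d s) → s = 1 := by
    intro s hs hc
    by_contra hs1
    obtain ⟨k, hk⟩ := IsPGroup.iff_orderOf.mp hS'p ⟨s, hs⟩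
    rw [Subgroup.orderOf_mk] at hk
    have hk0 : k ≠ 0 := fun h => hs1 (orderOf_eq_one_iff.mp (by rw [hk, h, pow_zero]))
    obtain ⟨k, rfl⟩ := Nat.exists_eq_succ_of_ne_zero hk0
    set z := s ^ 2 ^ k with hzdef
    have hz2 : orderOf z = 2 := by
      rw [hzdef, orderOf_pow_of_dvd (by positivity) (hk ▸ pow_dvd_pow 2 (Nat.le_succ k)), hk, pow_succ',
        Nat.mul_div_cancel _ (by positivity)]
    have hzS : z ∈ S' := pow_mem hs _
    have hzY : ∀ y ∈ Y, y * z * y⁻¹ = z := by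
      intro y hy
      obtain ⟨⟨⟨a, ha⟩, ⟨b, hb⟩⟩, hab⟩ := hD₀.2 ⟨y, hy⟩
      have hy' : y = (a : G) * b := by rw [← Subgroup.coe_mul]; exact (congrArg Subtype.val hab).symm
      have h1 : Commute (a : G) z := hcent z hz2 (hSY hzS).1 a ha
      have h2 : Commute (b : G) z := (hc b ⟨b, hb, rfl⟩).pow_right _
      rw [hy', (h1.mul_left h2).eq, mul_inv_cancel_right]
    have huniq : ∀ x : G, orderOf x = 2 → x ∈ H → x = z := by
      intro x hx hxH
      obtain ⟨y, hy, rfl⟩ := hinvY x hx hxH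
      obtain ⟨y', hy', hz'⟩ := hinvY z hz2 (hSY hzS).1
      have hz0 : z₀ = z := by
        conv_lhs => rw [show z₀ = y'⁻¹ * (y' * z₀ * y'⁻¹) * y'⁻¹⁻¹ by group, hz',
          hzY _ (inv_mem hy')]
      rw [hz0, hzY y hy]
    exact htu ((huniq t ht htH).trans (huniq u hu huH).symm)
  -- no 2-element outside `L` with square inside
  classical
  refine Nat.not_even_iff_odd.mp fun heven => ?_
  obtain ⟨R, hR⟩ := se_exists_sylow_le hH
  have hnot : ¬ (R : Subgroup G) ≤ L := fun hle =>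
    R.not_dvd_index ((even_iff_two_dvd.mp heven).trans (index_dvd_of_le hle))
  obtain ⟨x₀, hx₀R, hx₀L⟩ := SetLike.not_le_iff_exists.mp hnot
  obtain ⟨x, hxR, hxL, hx2⟩ : ∃ x, x ∈ (R : Subgroup G) ∧ x ∉ L ∧ x * x ∈ L := by
    obtain ⟨k, hk⟩ := IsPGroup.iff_orderOf.mp R.isPGroup' ⟨x₀, hx₀R⟩
    rw [Subgroup.orderOf_mk] at hk
    have hex : ∃ n, x₀ ^ 2 ^ n ∈ L := ⟨k, by rw [← hk, pow_orderOf_eq_one]; exact one_mem _⟩
    have hn : Nat.find hex ≠ 0 := fun h => hx₀L (by simpa [h] using Nat.find_spec hex)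
    refine ⟨x₀ ^ 2 ^ (Nat.find hex - 1), pow_mem hx₀R _, Nat.find_min hex (by omega), ?_⟩
    rw [← pow_add, ← two_mul, ← pow_succ', Nat.sub_add_cancel (Nat.one_le_iff_ne_zero.mpr hn)]
    exact Nat.find_spec hex
  have hxH : x ∈ H := hR hxR
  have hxY : ∀ y ∈ Y, x * y * x⁻¹ ∈ Y := fun y hy =>
    mem_inf.mpr ⟨mul_mem (mul_mem hxH hy.1) (inv_mem hxH), Normal.conj_mem inferInstance y hy.2 x⟩
  -- the transported complement
  set D' := D.map (MulAut.conj x).toMonoidHom with hD'def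
  have hD'Y : D' ≤ Y := by rintro _ ⟨d, hd, rfl⟩; exact hxY d (hDY hd)
  have hD'c : IsComplement' (S'.subgroupOf Y) (D'.subgroupOf Y) := by
    refine isComplement'_of_coprime ?_ ?_
    · rw [← hD₀.card_mul, Nat.card_congr (subgroupOfEquivOfLe hD'Y).toEquiv, hD'def,
        card_map_of_injective (MulAut.conj x).injective, hDdef, card_map_of_injective Y.subtype_injective]
    · rw [Nat.card_congr (subgroupOfEquivOfLe hD'Y).toEquiv, hD'def,
        card_map_of_injective (MulAut.conj x).injective, hDdef, card_map_of_injective Y.subtype_injective]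
      rwa [← hD₀.symm.index_eq_card]
  have hsolv : Group.IsSolvable ↥(S'.subgroupOf Y) := by
    haveI : Group.IsNilpotent ↥(S'.subgroupOf Y) :=
      (hS'p.comap_of_injective Y.subtype Y.subtype_injective).isNilpotent
    infer_instance
  obtain ⟨a, haS, ha⟩ := Hall.complement_conj_of_solvable (S'.subgroupOf Y) hcop hsolv hD₀ hD'c
  -- `w = a⁻¹ x` normalises `D`
  set w := (a : G)⁻¹ * x with hwdef
  have hwD : ∀ d ∈ D, w * d * w⁻¹ ∈ D := by
    intro d hd
    have hd' : x * d * x⁻¹ ∈ D' := ⟨d, hd, rfl⟩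
    have h1 : (⟨_, hD'Y hd'⟩ : Y) ∈ MulAut.conj a • D₀ := by rw [ha]; exact hd'
    obtain ⟨e, he, hee⟩ := h1
    have h2 : (a : G) * e * (a : G)⁻¹ = x * d * x⁻¹ := congrArg Subtype.val hee
    refine ⟨e, he, ?_⟩
    calc ((e : Y) : G) = (a : G)⁻¹ * ((a : G) * e * (a : G)⁻¹) * a := by group
      _ = w * d * w⁻¹ := by rw [h2, hwdef]; group
  have haSG : (a : G) ∈ S' := haS
  have haL : (a : G) ∈ L := hSL haSG
  have hwH : w ∈ H := mul_mem (inv_mem (hSY haSG).1) hxH
  have hwL : w ∉ L := fun h => hxL (by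
    have := mul_mem haL h
    rwa [hwdef, mul_inv_cancel_left] at this)
  have hww : w * w = (a : G)⁻¹ * (x * (a : G)⁻¹ * x⁻¹) * (x * x) := by rw [hwdef]; group
  have hwwS : w * w ∈ S' := by
    rw [hww]
    refine mul_mem (mul_mem (inv_mem haSG) (hHS x hxH _ (inv_mem haSG))) ?_
    refine hmax (zpowers (x * x)) ?_ (zpowers_le.mpr ⟨mul_mem hxH hxH, hx2⟩) (mem_zpowers _)
    exact R.isPGroup'.to_le (zpowers_le.mpr (mul_mem hxR hxR))
  have hwwc : w * w = 1 := by
    refine hCD _ hwwS fun d hd => ?_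
    have hd2 : w * w * d * (w * w)⁻¹ ∈ D := by
      rw [show w * w * d * (w * w)⁻¹ = w * (w * d * w⁻¹) * w⁻¹ by group]
      exact hwD _ (hwD d hd)
    have h1 : w * w * d * (w * w)⁻¹ * d⁻¹ ∈ S' := by
      rw [show w * w * d * (w * w)⁻¹ * d⁻¹ = w * w * (d * (w * w)⁻¹ * d⁻¹) by group]
      exact mul_mem hwwS (hYS d (hDY hd) _ (inv_mem hwwS))
    have h2 : w * w * d * (w * w)⁻¹ * d⁻¹ ∈ D := mul_mem hd2 (inv_mem hd)
    obtain ⟨e, he, hee⟩ := h2
    have hbot : e ∈ S'.subgroupOf Y ⊓ D₀ := ⟨show Y.subtype e ∈ S' by rw [hee]; exact h1, he⟩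
    rw [hD₀.disjoint.eq_bot, mem_bot] at hbot
    rw [hbot, map_one] at hee
    have h3 := mul_inv_eq_iff_eq_mul.mp (mul_inv_eq_one.mp hee.symm)
    exact h3.symm
  exact hwL (hinv w (orderOf_eq_two_of_mul_self hwwc fun h => hwL (h ▸ one_mem L)))

end Cfsg.Agent.H76.PostBender
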